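import Mathlib.RingTheory.AdicCompletion.Completeness
import Mathlib.RingTheory.AdicCompletion.Functoriality
import Mathlib.RingTheory.AdicCompletion.Noetherian
import Mathlib.RingTheory.MvPowerSeries.Equiv
import Mathlib.RingTheory.MvPowerSeries.Inverse
import Mathlib.RingTheory.MvPowerSeries.NoZeroDivisors
import Mathlib.RingTheory.RegularLocalRing.Defs
import Mathlib.RingTheory.KrullDimension.NonZeroDivisors
import Mathlib.RingTheory.KrullDimension.Field
import Mathlib.RingTheory.Nakayama

/-!
# Power series over a field as regular local rings; surjectivity onto Noetherian local rings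
-/

set_option autoImplicit false

namespace Groth.Agent.PSLoc

open IsLocalRing

/-- A map from an `I`-precomplete ring into a Noetherian local ring is surjective if the residue map
is surjective and the image of `I` spans the cotangent space. -/
theorem surjective_of_cotangent {R S : Type*} [CommRing R] [CommRing S] [IsLocalRing S]
    [IsNoetherianRing S] (I : Ideal R) [IsPrecomplete I R] (f : R →+* S)
    (hI : I.map f ≤ maximalIdeal S) (hcot : maximalIdeal S ≤ I.map f ⊔ maximalIdeal S ^ 2)
    (hres : Function.Surjective ((residue S).comp f)) : Function.Surjective f := by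
  have hJ : I.map f = maximalIdeal S := by
    refine le_antisymm hI ?_
    apply Submodule.le_of_le_smul_of_le_jacobson_bot (I := maximalIdeal S)
      (IsNoetherian.noetherian _) (maximalIdeal_le_jacobson _)
    rw [smul_eq_mul, ← pow_two]
    exact hcot
  haveI : IsHausdorff (I.map f) S := IsHausdorff.of_le_jacobson _ _ (hJ.trans_le (maximalIdeal_le_jacobson _))
  refine surjective_of_mk_map_comp_surjective (I := I) f ?_
  intro y
  obtain ⟨y, rfl⟩ := Ideal.Quotient.mk_surjective y
  obtain ⟨x, hx⟩ := hres (residue S y)
  refine ⟨x, ?_⟩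
  rw [RingHom.comp_apply, Ideal.Quotient.eq, hJ]
  exact Ideal.Quotient.eq.mp hx

section MvPowerSeries

variable (k : Type*) [Field k]

theorem maximalIdeal_eq {σ : Type*} [Finite σ] :
    maximalIdeal (MvPowerSeries σ k) = Ideal.span (Set.range (MvPowerSeries.X : σ → MvPowerSeries σ k)) := by
  refine le_antisymm ?_ ?_
  · intro f hf
    let e := MvPowerSeries.toAdicCompletionAlgEquiv σ k
    have hmap : Ideal.map e.toRingEquiv (Ideal.span (Set.range MvPowerSeries.X)) =
        (MvPolynomial.idealOfVars σ k).map (algebraMap _ _) := by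
      simp_rw [Ideal.map_span, ← Set.range_comp]
      congr 2; ext1
      simp [e, AdicCompletion.algebraMap_apply, ← MvPolynomial.coe_X, MvPowerSeries.toAdicCompletion_coe]
    suffices h : e f ∈ Ideal.map e.toRingEquiv (Ideal.span (Set.range MvPowerSeries.X)) by
      obtain ⟨g, hg, hgf⟩ := (Ideal.mem_map_iff_of_surjective _ e.toRingEquiv.surjective).mp h
      exact e.injective hgf ▸ hg
    rw [hmap, ← AdicCompletion.ker_evalOneₐ_eq_map _ (MvPolynomial.idealOfVars_fg σ k)]
    have h0 : MvPowerSeries.constantCoeff f = 0 := by
      by_contra h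
      exact (mem_maximalIdeal _).mp hf (MvPowerSeries.isUnit_iff_constantCoeff.mpr (Ne.isUnit h))
    have ht : MvPowerSeries.truncTotal 1 f = 0 := by
      classical
      ext x
      by_cases hx : Finsupp.degree x < 1
      · rw [MvPowerSeries.coeff_truncTotal _ hx]
        have : x = 0 := by simpa [Finsupp.degree_eq_zero_iff] using hx
        subst this
        simpa using h0
      · rw [MvPowerSeries.coeff_truncTotal_eq_zero _ (not_lt.mp hx)]
        simp
    rw [RingHom.mem_ker]
    show AdicCompletion.evalOneₐ _ (e f) = 0
    rw [MvPowerSeries.toAdicCompletionAlgEquiv_apply, AdicCompletion.evalOneₐ, AlgHom.comp_apply]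
    have : AdicCompletion.evalₐ (MvPolynomial.idealOfVars σ k) 1 (MvPowerSeries.toAdicCompletion σ k f) = 0 := by
      rw [← AdicCompletion.factor_eval_eq_evalₐ]
      · change Submodule.factor _ ((MvPowerSeries.toAdicCompletion σ k f).val 1) = 0
        rw [MvPowerSeries.toAdicCompletion_apply_eq_mk_truncTotal, ht]
        exact map_zero _
      · simp
    rw [this, map_zero]
  · rw [Ideal.span_le]
    rintro _ ⟨i, rfl⟩
    rw [SetLike.mem_coe, mem_maximalIdeal, mem_nonunits_iff, MvPowerSeries.isUnit_iff_constantCoeff]
    simp

theorem natCast_le_ringKrullDim (d : ℕ) :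
    (d : WithBot ℕ∞) ≤ ringKrullDim (MvPowerSeries (Fin d) k) := by
  induction d with
  | zero => simpa using ringKrullDim_nonneg_of_nontrivial
  | succ d ih =>
    rw [ringKrullDim_eq_of_ringEquiv (MvPowerSeries.finSuccEquiv k d).toRingEquiv]
    refine le_trans ?_ ringKrullDim_succ_le_ringKrullDim_powerseries
    push_cast
    exact add_le_add_left ih 1

theorem spanFinrank_le (d : ℕ) : (maximalIdeal (MvPowerSeries (Fin d) k)).spanFinrank ≤ d := by
  classical
  rw [maximalIdeal_eq]
  refine (Submodule.spanFinrank_span_le_ncard_of_finite (Set.finite_range _)).trans ?_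
  rw [← Set.image_univ]
  exact (Set.ncard_image_le Set.finite_univ).trans (by simp)

theorem ringKrullDim_eq (d : ℕ) : ringKrullDim (MvPowerSeries (Fin d) k) = d := by
  refine le_antisymm ((ringKrullDim_le_spanFinrank_maximalIdeal _).trans ?_) (natCast_le_ringKrullDim k d)
  exact_mod_cast spanFinrank_le k d

theorem isRegularLocalRing (d : ℕ) : IsRegularLocalRing (MvPowerSeries (Fin d) k) := by
  rw [isRegularLocalRing_iff, ringKrullDim_eq]
  have h := ringKrullDim_le_spanFinrank_maximalIdeal (MvPowerSeries (Fin d) k)
  rw [ringKrullDim_eq] at h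
  exact le_antisymm (by exact_mod_cast spanFinrank_le k d) h

end MvPowerSeries

end Groth.Agent.PSLoc
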